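import Mathlib.RingTheory.LaurentSeries
import Mathlib.RingTheory.Henselian
import Mathlib.RingTheory.RootsOfUnity.AlgebraicallyClosed
import Mathlib.RingTheory.Unramified.Finite
import Mathlib.FieldTheory.IsSepClosed
import Mathlib.RingTheory.Noetherian.Nilpotent

/-!
# Kummer substitutions of Laurent series over a strictly henselian ring
-/

set_option autoImplicit false
universe u

namespace Groth.Agent.Laurent84

open HahnSeries TensorProduct

variable {R S : Type u} [CommRing R] [CommRing S]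

/-- Apply a ring map to the coefficients of a Laurent series. -/
noncomputable def mapC (φ : R →+* S) : LaurentSeries R →+* LaurentSeries S where
  toFun x := x.map φ
  map_one' := by
    ext n
    rcases eq_or_ne n 0 with rfl | h <;> simp [HahnSeries.map_coeff, HahnSeries.coeff_one, *]
  map_mul' x y := HahnSeries.map_mul φ.toNonUnitalRingHom
  map_zero' := by ext n; simp
  map_add' x y := by ext n; simp

@[simp]
theorem mapC_coeff (φ : R →+* S) (x : LaurentSeries R) (n : ℤ) : (mapC φ x).coeff n = φ (x.coeff n) := rfl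

theorem ofPowerSeries_coeff_neg (p : PowerSeries R) {n : ℤ} (h : n < 0) : (ofPowerSeries ℤ R p).coeff n = 0 := by
  rw [ofPowerSeries_apply, embDomain_of_notMem_range]
  rintro ⟨m, rfl⟩
  exact absurd (Int.natCast_nonneg m) (not_le.2 h)

theorem mapC_ofPowerSeries (φ : R →+* S) (p : PowerSeries R) :
    mapC φ (ofPowerSeries ℤ R p) = ofPowerSeries ℤ S (PowerSeries.map φ p) := by
  ext n
  rw [mapC_coeff]
  rcases lt_or_ge n 0 with h | h
  · rw [ofPowerSeries_coeff_neg _ h, ofPowerSeries_coeff_neg _ h, map_zero]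
  · obtain ⟨m, rfl⟩ := Int.eq_ofNat_of_zero_le h
    rw [ofPowerSeries_apply_coeff, ofPowerSeries_apply_coeff, PowerSeries.coeff_map]

theorem eq_mapC (φ : R →+* S) (ρ : LaurentSeries R →+* LaurentSeries S)
    (hρ : ρ.comp (ofPowerSeries ℤ R) = (ofPowerSeries ℤ S).comp (PowerSeries.map φ)) : ρ = mapC φ := by
  refine IsLocalization.ringHom_ext (Submonoid.powers (PowerSeries.X : PowerSeries R)) ?_
  ext1 p
  exact (RingHom.congr_fun hρ p).trans (mapC_ofPowerSeries φ p).symm

/-- The substitution `t ↦ ζ t`. -/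
noncomputable def twist (ζ : Rˣ) : LaurentSeries R →+* LaurentSeries R :=
  have hs : ∀ x : LaurentSeries R, Function.support (fun n => ((ζ ^ n : Rˣ) : R) * x.coeff n) = x.support := fun x => by
    ext n; simp
  let tw : LaurentSeries R → LaurentSeries R := fun x =>
    { coeff := fun n => ((ζ ^ n : Rˣ) : R) * x.coeff n
      isPWO_support' := (hs x).symm ▸ x.isPWO_support' }
  { toFun := tw
    map_one' := by
      ext n
      rcases eq_or_ne n 0 with rfl | h <;> simp [tw, HahnSeries.coeff_one, *]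
    map_mul' := fun x y => by
      ext n
      show ((ζ ^ n : Rˣ) : R) * (x * y).coeff n = (tw x * tw y).coeff n
      rw [coeff_mul, coeff_mul, Finset.mul_sum]
      refine Finset.sum_congr ?_ fun ij h => ?_
      · ext ij
        simp [tw]
      · obtain ⟨-, -, rfl⟩ := Finset.mem_antidiagonal.1 h
        simp only [tw, zpow_add, Units.val_mul]
        ring
    map_zero' := by ext n; simp [tw]
    map_add' := fun x y => by ext n; simp [tw, mul_add] }

@[simp]
theorem twist_coeff (ζ : Rˣ) (x : LaurentSeries R) (n : ℤ) :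
    (twist ζ x).coeff n = ((ζ ^ n : Rˣ) : R) * x.coeff n := rfl

theorem mapC_twist (φ : R →+* S) (ζ : Rˣ) (x : LaurentSeries R) :
    mapC φ (twist ζ x) = twist (Units.map φ.toMonoidHom ζ) (mapC φ x) := by
  ext n
  simp only [mapC_coeff, twist_coeff, map_mul, ← map_zpow]
  rfl

section emb

variable {d : ℕ} (hinj : Function.Injective (AddMonoidHom.mulLeft (d : ℤ)))
  (hmono : ∀ g g' : ℤ, AddMonoidHom.mulLeft (d : ℤ) g ≤ AddMonoidHom.mulLeft (d : ℤ) g' ↔ g ≤ g')

/-- The substitution `t ↦ t ^ d`. -/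
noncomputable abbrev emb (R : Type u) [CommRing R] : LaurentSeries R →+* LaurentSeries R :=
  HahnSeries.embDomainRingHom (R := R) (AddMonoidHom.mulLeft (d : ℤ)) hinj hmono

theorem emb_coeff_mul (x : LaurentSeries R) (n : ℤ) : (emb hinj hmono R x).coeff (d * n) = x.coeff n :=
  HahnSeries.embDomain_mk_coeff hinj hmono

theorem emb_coeff_of_not_dvd (x : LaurentSeries R) {n : ℤ} (h : ¬ (d : ℤ) ∣ n) :
    (emb hinj hmono R x).coeff n = 0 :=
  HahnSeries.embDomain_of_notMem_range fun ⟨m, hm⟩ => h ⟨m, hm.symm⟩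

theorem emb_injective : Function.Injective (emb hinj hmono R) := fun x y h =>
  HahnSeries.ext (funext fun n => by rw [← emb_coeff_mul hinj hmono x, ← emb_coeff_mul hinj hmono y, h])

theorem mapC_emb (φ : R →+* S) (x : LaurentSeries R) :
    mapC φ (emb hinj hmono R x) = emb hinj hmono S (mapC φ x) := by
  ext n
  rw [mapC_coeff]
  by_cases h : (d : ℤ) ∣ n
  · obtain ⟨m, rfl⟩ := h
    rw [emb_coeff_mul, emb_coeff_mul, mapC_coeff]
  · rw [emb_coeff_of_not_dvd _ _ _ h, emb_coeff_of_not_dvd _ _ _ h, map_zero]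

theorem twist_emb {ζ : Rˣ} (hζ : ζ ^ d = 1) (x : LaurentSeries R) :
    twist ζ (emb hinj hmono R x) = emb hinj hmono R x := by
  ext n
  rw [twist_coeff]
  by_cases h : (d : ℤ) ∣ n
  · obtain ⟨m, rfl⟩ := h
    rw [zpow_mul, zpow_natCast, hζ, one_zpow, Units.val_one, one_mul]
  · rw [emb_coeff_of_not_dvd _ _ _ h, mul_zero]

theorem mem_range_emb (hd : 0 < d) {ζ : Rˣ} (hζ : ∀ n : ℤ, ¬ (d : ℤ) ∣ n → IsUnit (((ζ ^ n : Rˣ) : R) - 1))
    {x : LaurentSeries R} (hx : twist ζ x = x) : ∃ y, emb hinj hmono R y = x := by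
  have hz : ∀ n : ℤ, ¬ (d : ℤ) ∣ n → x.coeff n = 0 := fun n hn => by
    have h := congrArg (fun z : LaurentSeries R => z.coeff n) hx
    simp only [twist_coeff] at h
    exact (hζ n hn).mul_right_eq_zero.1 (by rw [sub_mul, one_mul, h, sub_self])
  refine ⟨{ coeff := fun n => x.coeff (d * n)
            isPWO_support' := fun f => ?_ }, ?_⟩
  · obtain ⟨i, j, hij, h⟩ := x.isPWO_support' (fun i => ⟨(d : ℤ) * (f i).1, (f i).2⟩)
    exact ⟨i, j, hij, (hmono _ _).1 h⟩
  · ext n
    by_cases h : (d : ℤ) ∣ n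
    · obtain ⟨m, rfl⟩ := h
      rw [emb_coeff_mul]
    · rw [emb_coeff_of_not_dvd _ _ _ h, hz n h]

end emb

/-- A primitive root of unity whose nontrivial powers are congruent to units minus one. -/
theorem exists_rootOfUnity [HenselianLocalRing R] [IsSepClosed (IsLocalRing.ResidueField R)] {d : ℕ} (hd : 0 < d)
    (hdu : IsUnit (d : R)) :
    ∃ ζ : Rˣ, ζ ^ d = 1 ∧ ∀ n : ℤ, ¬ (d : ℤ) ∣ n → IsUnit (((ζ ^ n : Rˣ) : R) - 1) := by
  let k := IsLocalRing.ResidueField R
  have hdk : (d : k) ≠ 0 := by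
    rw [← map_natCast (IsLocalRing.residue R)]
    exact (hdu.map _).ne_zero
  have : NeZero (d : k) := ⟨hdk⟩
  obtain ⟨μ, hμ⟩ := HasEnoughRootsOfUnity.exists_primitiveRoot k d
  obtain ⟨a₀, ha₀⟩ := IsLocalRing.residue_surjective μ
  have hf : IsUnit ((Polynomial.X ^ d - 1 : Polynomial R).derivative.eval a₀) := by
    have hm : μ ≠ 0 := fun h => one_ne_zero (hμ.pow_eq_one ▸ by rw [h, zero_pow hd.ne'] : (1 : k) = 0)
    rw [Polynomial.derivative_sub, Polynomial.derivative_one, sub_zero, Polynomial.derivative_X_pow]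
    simp only [Polynomial.eval_mul, Polynomial.eval_C, Polynomial.eval_pow, Polynomial.eval_X]
    refine hdu.mul (IsUnit.pow _ ?_)
    exact (IsLocalRing.residue_ne_zero_iff_isUnit a₀).1 (ha₀ ▸ hm)
  obtain ⟨a, ha, haa⟩ := HenselianLocalRing.is_henselian (Polynomial.X ^ d - 1)
    (Polynomial.monic_X_pow_sub_C (1 : R) hd.ne') a₀ ((IsLocalRing.residue_eq_zero_iff _).1 (by
      simp [ha₀, hμ.pow_eq_one])) hf
  have had : a ^ d = 1 := by simpa [Polynomial.IsRoot, sub_eq_zero] using ha
  have hres : IsLocalRing.residue R a = μ := by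
    rw [← sub_eq_zero, ← ha₀, ← map_sub, IsLocalRing.residue_eq_zero_iff]
    exact haa
  let ζ : Rˣ := Units.ofPowEqOne a d had hd.ne'
  refine ⟨ζ, Units.pow_ofPowEqOne had hd.ne', fun n hn => ?_⟩
  refine (IsLocalRing.residue_ne_zero_iff_isUnit _).1 fun h => hn ?_
  rw [map_sub, map_one, sub_eq_zero] at h
  have hμu : IsPrimitiveRoot (Units.map (IsLocalRing.residue R).toMonoidHom ζ) d := by
    rw [← IsPrimitiveRoot.coe_units_iff]
    simpa [ζ, hres] using hμ
  refine (hμu.zpow_eq_one_iff_dvd n).1 (Units.ext ?_)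
  rw [← map_zpow]
  exact h

section rigid

/-- An idempotent of Laurent series over a local ring is trivial. -/
theorem idem_eq [IsLocalRing R] {e : LaurentSeries R} (he : e * e = e) : e = 0 ∨ e = 1 := by
  classical
  -- negative coefficients are nilpotent, so they generate a nilpotent ideal
  have hnil : ∀ n : ℤ, n < 0 → IsNilpotent (e.coeff n) := fun n hn => by
    refine (nilpotent_iff_mem_prime).2 fun P hP => ?_
    have : P.IsPrime := hP
    have h := congrArg (mapC (Ideal.Quotient.mk P)) he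
    rw [map_mul] at h
    have h1 : (mapC (Ideal.Quotient.mk P) e).coeff n = 0 := by
      rcases IsIdempotentElem.iff_eq_zero_or_one.1 h with h0 | h0
      · rw [h0]; rfl
      · rw [h0, HahnSeries.coeff_one, if_neg hn.ne]
    exact Ideal.Quotient.eq_zero_iff_mem.1 h1
  obtain ⟨b, hb⟩ : ∃ b : ℤ, ∀ n < b, e.coeff n = 0 := ⟨e.order, fun n hn => coeff_eq_zero_of_lt_order hn⟩
  let N : Ideal R := Ideal.span ((Finset.Ico b 0).image e.coeff : Set R)
  have hN : IsNilpotent N := by
    refine (Ideal.FG.isNilpotent_iff_le_nilradical ⟨_, rfl⟩).2 (Ideal.span_le.2 ?_)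
    intro r hr
    obtain ⟨n, hn, rfl⟩ := Finset.mem_image.1 hr
    exact mem_nilradical.2 (hnil n (Finset.mem_Ico.1 hn).2)
  have hne : N ≠ ⊤ := by
    intro h
    obtain ⟨m, hm⟩ := hN
    rw [h] at hm
    rw [← Ideal.one_eq_top, one_pow, Ideal.one_eq_top] at hm
    exact top_ne_bot hm
  have : IsLocalRing (R ⧸ N) :=
    have := Ideal.Quotient.nontrivial_iff.2 hne
    IsLocalRing.of_surjective' (Ideal.Quotient.mk N) Ideal.Quotient.mk_surjective
  let π := mapC (Ideal.Quotient.mk N)
  have hps : ∃ p : PowerSeries (R ⧸ N), ofPowerSeries ℤ _ p = π e := by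
    refine ⟨PowerSeries.mk fun n => Ideal.Quotient.mk N (e.coeff n), ?_⟩
    ext n
    rcases lt_or_ge n 0 with h | h
    · rw [ofPowerSeries_coeff_neg _ h, mapC_coeff, eq_comm, Ideal.Quotient.eq_zero_iff_mem]
      rcases lt_or_ge n b with h' | h'
      · rw [hb n h']; exact zero_mem _
      · exact Ideal.subset_span (Finset.mem_image_of_mem _ (Finset.mem_Ico.2 ⟨h', h⟩))
    · obtain ⟨m, rfl⟩ := Int.eq_ofNat_of_zero_le h
      rw [ofPowerSeries_apply_coeff, PowerSeries.coeff_mk, mapC_coeff]
  obtain ⟨p, hp⟩ := hps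
  have hpp : p * p = p := HahnSeries.ofPowerSeries_injective (Γ := ℤ) (by rw [map_mul, hp, ← map_mul, he])
  have key : ∀ f : LaurentSeries R, f * f = f → π f = 0 → f = 0 := by
    intro f hf h0
    have hpow : ∀ m : ℕ, ∀ n, (f ^ (m + 1)).coeff n ∈ N ^ (m + 1) := by
      intro m
      induction m with
      | zero =>
        intro n
        rw [pow_one, pow_one, ← Ideal.Quotient.eq_zero_iff_mem]
        exact congrArg (fun z : LaurentSeries (R ⧸ N) => z.coeff n) h0
      | succ m ih =>
        intro n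
        rw [pow_succ f (m + 1), coeff_mul, pow_succ N (m + 1)]
        refine Ideal.sum_mem _ fun ij _ => Ideal.mul_mem_mul (ih _) ?_
        rw [← Ideal.Quotient.eq_zero_iff_mem]
        exact congrArg (fun z : LaurentSeries (R ⧸ N) => z.coeff ij.2) h0
    obtain ⟨m, hm⟩ := hN
    have hfm : f ^ (m + 1) = f := IsIdempotentElem.pow_succ_eq m hf
    ext n
    have h := hpow m n
    rw [hfm, pow_succ, hm, zero_mul] at h
    exact h
  rcases IsLocalRing.isUnit_or_isUnit_one_sub_self p with h | h
  · have hp1 : p = 1 := h.mul_left_cancel (hpp.trans (mul_one p).symm)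
    refine Or.inr (sub_eq_zero.1 ?_).symm
    refine key (1 - e) (by ring_nf; rw [pow_two, he]; ring) ?_
    rw [map_sub, map_one, ← hp, hp1, map_one, sub_self]
  · refine Or.inl (key e he ?_)
    have hp0 : p = 0 := h.mul_left_eq_zero.1 (by rw [mul_sub, mul_one, hpp, sub_self])
    rw [← hp, hp0, map_zero]

/-- Two points of an unramified algebra with values in a ring without nontrivial idempotents agree if
they agree at some point. -/
theorem hom_ext {A B C D : Type u} [CommRing A] [CommRing B] [CommRing C] [CommRing D] [Nontrivial D] [Algebra A B]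
    [Algebra.FormallyUnramified A B] [Algebra.EssFiniteType A B] (hC : ∀ e : C, e * e = e → e = 0 ∨ e = 1)
    (f g : B →+* C) (hfg : f.comp (algebraMap A B) = g.comp (algebraMap A B)) (ρ : C →+* D)
    (hρ : ρ.comp f = ρ.comp g) : f = g := by
  let : Algebra A C := (f.comp (algebraMap A B)).toAlgebra
  let f' : B →ₐ[A] C := ⟨f, fun _ => rfl⟩
  let g' : B →ₐ[A] C := ⟨g, fun a => (RingHom.congr_fun hfg a).symm⟩
  let h := Algebra.TensorProduct.productMap f' g'
  let E := Algebra.FormallyUnramified.elem A B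
  have hz : ∀ z : B ⊗[A] B, z * E = (Algebra.TensorProduct.lmul' A z ⊗ₜ 1) * E := fun z => by
    induction z using TensorProduct.induction_on with
    | zero => simp
    | tmul a b =>
      rw [Algebra.TensorProduct.lmul'_apply_tmul]
      have h1 : a ⊗ₜ[A] b = (a ⊗ₜ 1) * (1 ⊗ₜ b) := by simp
      have h2 : (a * b) ⊗ₜ[A] (1 : B) = (a ⊗ₜ 1) * (b ⊗ₜ 1) := by simp
      rw [h1, h2, mul_assoc, mul_assoc, Algebra.FormallyUnramified.one_tmul_mul_elem]
    | add x y hx hy => rw [add_mul, hx, hy, map_add, TensorProduct.add_tmul, add_mul]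
  have hE : E * E = E := by
    rw [hz E, Algebra.FormallyUnramified.lmul_elem, ← Algebra.TensorProduct.one_def, one_mul]
  rcases hC (h E) (by rw [← map_mul, hE]) with h0 | h0
  · exfalso
    have h1 : ∀ z : B ⊗[A] B, ρ (h z) = ρ (f (Algebra.TensorProduct.lmul' A z)) := fun z => by
      induction z using TensorProduct.induction_on with
      | zero => simp
      | tmul a b =>
        rw [Algebra.TensorProduct.lmul'_apply_tmul, Algebra.TensorProduct.productMap_apply_tmul, map_mul, map_mul, map_mul]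
        exact congrArg (ρ (f a) * ·) (RingHom.congr_fun hρ b).symm
      | add x y hx hy => simp only [map_add, hx, hy]
    have h2 := h1 E
    rw [h0, map_zero, Algebra.FormallyUnramified.lmul_elem, map_one, map_one] at h2
    exact zero_ne_one h2
  · refine RingHom.ext fun b => ?_
    have h1 := congrArg h (Algebra.FormallyUnramified.one_tmul_mul_elem (R := A) b)
    rw [map_mul, map_mul, h0, mul_one, mul_one] at h1
    simpa [h, f', g'] using h1.symm

end rigid

end Groth.Agent.Laurent84
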