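import Groth.Agent.Laurent84.Basic
import Mathlib.AlgebraicGeometry.Morphisms.Etale
import Mathlib.AlgebraicGeometry.Morphisms.Finite
import Mathlib.AlgebraicGeometry.Limits

/-!
# Rigidity of points of finite étale covers of Laurent series rings
-/

set_option autoImplicit false
universe u

open CategoryTheory CategoryTheory.Limits AlgebraicGeometry

namespace Groth.Agent.Laurent84

variable {R : Type u} [CommRing R] [HenselianLocalRing R] [IsSepClosed (IsLocalRing.ResidueField R)]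

local notation "LK" => LaurentSeries (IsLocalRing.ResidueField R)
local notation "LR" => LaurentSeries R

theorem rigidity {d : ℕ} (hd : 0 < d) (hdu : IsUnit (d : R))
    (hinj : Function.Injective (AddMonoidHom.mulLeft (d : ℤ)))
    (hmono : ∀ g g' : ℤ, AddMonoidHom.mulLeft (d : ℤ) g ≤ AddMonoidHom.mulLeft (d : ℤ) g' ↔ g ≤ g')
    (ρ : LR →+* LK)
    (hρ : ρ.comp (HahnSeries.ofPowerSeries ℤ R) =
      (HahnSeries.ofPowerSeries ℤ (IsLocalRing.ResidueField R)).comp (PowerSeries.map (IsLocalRing.residue R)))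
    {X : Scheme.{u}} (p : X ⟶ Spec (CommRingCat.of LR)) [IsFinite p] [Etale p]
    (hsplit : ∃ (n : ℕ) (e : pullback p (Spec.map (CommRingCat.ofHom (emb hinj hmono R))) ≅
        (∐ fun _ : Fin n => Spec (CommRingCat.of LR))),
      e.hom ≫ Sigma.desc (fun _ : Fin n => 𝟙 (Spec (CommRingCat.of LR))) = pullback.snd p _) :
    (∀ s₁ s₂ : Spec (CommRingCat.of LR) ⟶ X,
        s₁ ≫ p = 𝟙 _ → s₂ ≫ p = 𝟙 _ →
        Spec.map (CommRingCat.ofHom ρ) ≫ s₁ = Spec.map (CommRingCat.ofHom ρ) ≫ s₂ → s₁ = s₂) ∧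
    (∀ s' : Spec (CommRingCat.of LK) ⟶ X,
        s' ≫ p = Spec.map (CommRingCat.ofHom ρ) →
        ∃ s : Spec (CommRingCat.of LR) ⟶ X, s ≫ p = 𝟙 _ ∧ Spec.map (CommRingCat.ofHom ρ) ≫ s = s') := by
  obtain rfl := eq_mapC _ ρ hρ
  let res := IsLocalRing.residue R
  have : IsAffine X := isAffine_of_isAffineHom p
  let φ : CommRingCat.of LR ⟶ Γ(X, ⊤) := Spec.preimage (X.isoSpec.inv ≫ p)
  have hφ : Spec.map φ = X.isoSpec.inv ≫ p := Spec.map_preimage _
  have hEt : φ.hom.Etale := by
    rw [← HasRingHomProperty.Spec_iff (P := @Etale), hφ]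
    infer_instance
  let : Algebra LR Γ(X, ⊤) := φ.hom.toAlgebra
  have : Algebra.Etale LR Γ(X, ⊤) := hEt
  have hidem : ∀ e : LR, e * e = e → e = 0 ∨ e = 1 := fun e he => idem_eq he
  -- points are ring maps
  have hpt : ∀ {C : CommRingCat.{u}} (s : Spec C ⟶ X) (g : CommRingCat.of LR ⟶ C), s ≫ p = Spec.map g →
      ∃ ψ : Γ(X, ⊤) ⟶ C, Spec.map ψ ≫ X.isoSpec.inv = s ∧ φ ≫ ψ = g := fun {C} s g hs => by
    refine ⟨Spec.preimage (s ≫ X.isoSpec.hom), by rw [Spec.map_preimage, Category.assoc, Iso.hom_inv_id, Category.comp_id], ?_⟩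
    apply Spec.map_injective
    rw [Spec.map_comp, Spec.map_preimage, hφ, Category.assoc, Iso.hom_inv_id_assoc, hs]
  constructor
  · intro s₁ s₂ h₁ h₂ h
    obtain ⟨ψ₁, rfl, e₁⟩ := hpt s₁ (𝟙 _) (h₁.trans (Spec.map_id _).symm)
    obtain ⟨ψ₂, rfl, e₂⟩ := hpt s₂ (𝟙 _) (h₂.trans (Spec.map_id _).symm)
    rw [← Category.assoc, ← Category.assoc, ← Spec.map_comp, ← Spec.map_comp, cancel_mono] at h
    have := hom_ext (A := LR) hidem ψ₁.hom ψ₂.hom (congrArg CommRingCat.Hom.hom (e₁.trans e₂.symm)) (mapC res)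
      (congrArg CommRingCat.Hom.hom (Spec.map_injective h))
    rw [CommRingCat.hom_ext this]
  · intro s' hs'
    obtain ⟨n, e, he⟩ := hsplit
    let E := emb hinj hmono R
    let Ek := emb hinj hmono (IsLocalRing.ResidueField R)
    have hEE : (mapC res).comp E = Ek.comp (mapC res) := RingHom.ext fun x => mapC_emb hinj hmono res x
    let m : Spec (CommRingCat.of LK) ⟶ pullback p (Spec.map (CommRingCat.ofHom E)) :=
      pullback.lift (Spec.map (CommRingCat.ofHom Ek) ≫ s') (Spec.map (CommRingCat.ofHom (mapC res))) (by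
        rw [Category.assoc, hs', ← Spec.map_comp, ← Spec.map_comp, ← CommRingCat.ofHom_comp, ← CommRingCat.ofHom_comp, hEE])
    let x := (m ≫ e.hom) default
    let 𝒰 := sigmaOpenCover (fun _ : Fin n => Spec (CommRingCat.of LR))
    obtain ⟨i, y, hy⟩ := 𝒰.exists_eq x
    let j := Sigma.ι (fun _ : Fin n => Spec (CommRingCat.of LR)) i
    have hr : Set.range (m ≫ e.hom) ⊆ Set.range j := by
      rintro _ ⟨z, rfl⟩
      obtain rfl : z = default := Subsingleton.elim (α := PrimeSpectrum LK) _ _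
      exact ⟨y, hy⟩
    let q := IsOpenImmersion.lift j (m ≫ e.hom) hr
    have hq : q ≫ j = m ≫ e.hom := IsOpenImmersion.lift_fac _ _ _
    have hjd : j ≫ Sigma.desc (fun _ : Fin n => 𝟙 (Spec (CommRingCat.of LR))) = 𝟙 _ := Sigma.ι_desc _ _
    have hqρ : q = Spec.map (CommRingCat.ofHom (mapC res)) := by
      rw [← Category.comp_id q, ← hjd, reassoc_of% hq, he, pullback.lift_snd]
    let s₀ : Spec (CommRingCat.of LR) ⟶ X := j ≫ e.inv ≫ pullback.fst _ _
    have hsnd : e.inv ≫ pullback.snd p (Spec.map (CommRingCat.ofHom E)) =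
        Sigma.desc (fun _ : Fin n => 𝟙 (Spec (CommRingCat.of LR))) := by rw [← he, Iso.inv_hom_id_assoc]
    have hs₀ : s₀ ≫ p = Spec.map (CommRingCat.ofHom E) := by
      simp only [s₀, Category.assoc, pullback.condition, reassoc_of% hsnd, reassoc_of% hjd]
    have hρs₀ : Spec.map (CommRingCat.ofHom (mapC res)) ≫ s₀ = Spec.map (CommRingCat.ofHom Ek) ≫ s' := by
      simp only [s₀, ← hqρ, reassoc_of% hq, Iso.hom_inv_id_assoc, m, pullback.lift_fst]
    obtain ⟨Ψ, hΨ, eΨ⟩ := hpt s₀ (CommRingCat.ofHom E) hs₀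
    obtain ⟨ψ', hψ', eψ'⟩ := hpt s' (CommRingCat.ofHom (mapC res)) hs'
    have hΨψ : (mapC res).comp Ψ.hom = Ek.comp ψ'.hom := by
      rw [← hΨ, ← hψ', ← Category.assoc, ← Category.assoc, ← Spec.map_comp, ← Spec.map_comp, cancel_mono] at hρs₀
      exact congrArg CommRingCat.Hom.hom (Spec.map_injective hρs₀)
    obtain ⟨ζ, hζd, hζ⟩ := exists_rootOfUnity (R := R) hd hdu
    have hΨφ : Ψ.hom.comp φ.hom = E := congrArg CommRingCat.Hom.hom eΨ
    have hfix : (twist ζ).comp Ψ.hom = Ψ.hom := by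
      refine hom_ext (A := LR) hidem _ _ ?_ (mapC res) ?_
      · refine RingHom.ext fun a => ?_
        show twist ζ (Ψ.hom (φ.hom a)) = Ψ.hom (φ.hom a)
        rw [show Ψ.hom (φ.hom a) = E a from RingHom.congr_fun hΨφ a]
        exact twist_emb hinj hmono hζd a
      · refine RingHom.ext fun b => ?_
        show mapC res (twist ζ (Ψ.hom b)) = mapC res (Ψ.hom b)
        rw [mapC_twist, show mapC res (Ψ.hom b) = Ek (ψ'.hom b) from RingHom.congr_fun hΨψ b]
        exact twist_emb hinj hmono (by rw [← map_pow, hζd, map_one]) _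
    choose g hg using fun b => mem_range_emb hinj hmono hd hζ (RingHom.congr_fun hfix b)
    have hi := emb_injective (R := R) hinj hmono
    let ψ : Γ(X, ⊤) →+* LR :=
      { toFun := g
        map_one' := hi (by rw [hg, map_one, map_one])
        map_mul' := fun a b => hi (by rw [hg, map_mul, map_mul, hg, hg])
        map_zero' := hi (by rw [hg, map_zero, map_zero])
        map_add' := fun a b => hi (by rw [hg, map_add, map_add, hg, hg]) }
    refine ⟨Spec.map (CommRingCat.ofHom ψ) ≫ X.isoSpec.inv, ?_, ?_⟩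
    · rw [Category.assoc, ← hφ, ← Spec.map_comp, ← Spec.map_id]
      refine congrArg Spec.map (CommRingCat.hom_ext (RingHom.ext fun a => hi ?_))
      exact (hg _).trans (RingHom.congr_fun hΨφ a)
    · rw [← hψ', ← Category.assoc, ← Spec.map_comp]
      refine congrArg (fun k => Spec.map k ≫ X.isoSpec.inv) (CommRingCat.hom_ext (RingHom.ext fun b => ?_))
      apply emb_injective (R := IsLocalRing.ResidueField R) hinj hmono
      show Ek (mapC res (g b)) = Ek (ψ'.hom b)
      refine (RingHom.congr_fun hEE (g b)).symm.trans ?_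
      exact (congrArg (mapC res) (hg b)).trans (RingHom.congr_fun hΨψ b)

end Groth.Agent.Laurent84
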